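import Groth.Agent.Lib.SigmaFix.Basic
import Groth.Agent.Lib.Hens.System
import Groth.Agent.Lib.Hens.Local
import Mathlib.RingTheory.Filtration
import Mathlib.LinearAlgebra.TensorProduct.Quotient

/-!
# Frobenius semilinear maps over strictly henselian rings
-/

set_option autoImplicit false

universe u v

open TensorProduct IsLocalRing

namespace FrobLift29

variable {p : ℕ} [hp : Fact p.Prime] {R : Type u} [CommRing R] [HenselianLocalRing R] [CharP R p]

omit [HenselianLocalRing R] in
theorem charP_of_hom {k : Type*} [Field k] (f : R →+* k) : CharP k p :=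
  (CharP.charP_iff_prime_eq_zero hp.out).2 (by rw [← map_natCast f, CharP.cast_eq_zero, map_zero])

instance : CharP (ResidueField R) p := charP_of_hom (residue R)

/-- a residual solution lifts -/
theorem exists_lift_system {n : ℕ} (F : Fin n → Fin n → R) (y v0 : Fin n → R)
    (h0 : ∀ i, ∑ j, F i j * v0 j ^ p - v0 i - y i ∈ maximalIdeal R) :
    ∃ x : Fin n → R, (∀ i, ∑ j, F i j * x j ^ p - x i = y i) ∧ ∀ j, x j - v0 j ∈ maximalIdeal R := by
  classical
  let P : Fin n → MvPolynomial (Fin n) R := fun i =>
    ∑ j, MvPolynomial.C (F i j) * MvPolynomial.X j ^ p - MvPolynomial.X i - MvPolynomial.C (y i)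
  have hev : ∀ (x : Fin n → R) i, MvPolynomial.eval x (P i) = ∑ j, F i j * x j ^ p - x i - y i := fun x i => by
    simp [P]
  have hd : ∀ i j, MvPolynomial.pderiv j (P i) = -(1 : Matrix (Fin n) (Fin n) (MvPolynomial (Fin n) R)) i j := by
    intro i j
    simp only [P, map_sub, map_sum, MvPolynomial.pderiv_C_mul, MvPolynomial.pderiv_pow, CharP.cast_eq_zero,
      MvPolynomial.pderiv_C, zero_mul, mul_zero, smul_zero, Finset.sum_const_zero, zero_sub, sub_zero]
    rw [MvPolynomial.pderiv_X]
    simp [Matrix.one_apply, Pi.single_apply, eq_comm]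
  have hJ : IsUnit (Groth.Agent.Hens.jacDet P) := by
    rw [Groth.Agent.Hens.jacDet, show (Matrix.of fun i j => MvPolynomial.pderiv j (P i)) = -1 from
      Matrix.ext hd, Matrix.det_neg, Matrix.det_one, mul_one]
    exact isUnit_one.neg.pow _
  obtain ⟨x, hx, hxv⟩ := Groth.Agent.Hens.exists_zero_of_isUnit_jacDet
    (Groth.Agent.Hens.henselianRing_maximalIdeal R) P v0 (fun i => by rw [hev]; exact h0 i)
    ((hJ.map (MvPolynomial.eval v0)).map _)
  exact ⟨x, fun i => sub_eq_zero.1 ((hev x i).symm.trans (hx i)), hxv⟩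

variable [IsSepClosed (ResidueField R)]

omit [CharP R p] in
/-- surjectivity on the residual space -/
theorem residual_solution [CharP (ResidueField R) p] {n : ℕ} (F : Fin n → Fin n → ResidueField R)
    (y : Fin n → ResidueField R) : ∃ v : Fin n → ResidueField R, ∀ i, ∑ j, F i j * v j ^ p - v i = y i := by
  let φ : (Fin n → ResidueField R) →+ (Fin n → ResidueField R) :=
    AddMonoidHom.mk' (fun v i => ∑ j, F i j * v j ^ p) fun a b => funext fun i => by
      simp [add_pow_char, mul_add, Finset.sum_add_distrib]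
  obtain ⟨v, hv⟩ := Groth.Agent.SigmaLinLib.sub_surjective
    (Groth.Agent.SigmaLinLib.ofQLinear (p := p) (r := 1) φ fun (c : ResidueField R) (v : Fin n → ResidueField R) => funext fun i => by
      simp [φ, mul_pow, Finset.mul_sum, mul_left_comm])
    (Groth.Agent.SigmaLinLib.cond2_frobenius _ p 1 one_pos) (Groth.Agent.SigmaLinLib.cond3_frobenius _ p 1 one_pos) (-y)
  refine ⟨v, fun i => ?_⟩
  have h := congrFun hv i
  change v i - ∑ j, F i j * v j ^ p = -y i at h
  linear_combination -h

variable {M : Type v} [AddCommGroup M] [Module R M] (T : M →+ M) (hT : ∀ (r : R) (m : M), T (r • m) = r ^ p • T m)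

include hT

/-- `T - 1` is surjective on finite modules -/
theorem sub_surjective [Module.Finite R M] : Function.Surjective fun m => T m - m := by
  intro y
  obtain ⟨n, g, hg⟩ := Module.Finite.exists_fin (R := R) (M := M)
  have hmem : ∀ m : M, ∃ c : Fin n → R, ∑ j, c j • g j = m := fun m =>
    (Submodule.mem_span_range_iff_exists_fun R).1 (by rw [hg]; trivial)
  choose F hF using fun j => hmem (T (g j))
  obtain ⟨c, hc⟩ := hmem y
  obtain ⟨vb, hvb⟩ := residual_solution (p := p) (fun i j => residue R (F j i)) (fun i => residue R (c i))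
  choose v0 hv0 using fun j => residue_surjective (vb j)
  obtain ⟨x, hx, -⟩ := exists_lift_system (p := p) (fun i j => F j i) c v0 fun i => by
    rw [← residue_eq_zero_iff]
    simp only [map_sub, map_sum, map_mul, map_pow, hv0]
    rw [hvb, sub_self]
  refine ⟨∑ j, x j • g j, ?_⟩
  show T (∑ j, x j • g j) - ∑ j, x j • g j = y
  rw [← hc, map_sum]
  simp only [hT, ← hF, Finset.smul_sum, smul_smul]
  rw [Finset.sum_comm, ← Finset.sum_sub_distrib]
  refine Finset.sum_congr rfl fun i _ => ?_
  rw [← Finset.sum_smul, ← sub_smul]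
  congr 1
  rw [← hx i]
  simp only [mul_comm]

omit [IsSepClosed (ResidueField R)] in
/-- the residual map -/
noncomputable def bar : ResidueField R ⊗[R] M →+ ResidueField R ⊗[R] M :=
  TensorProduct.liftAddHom
    (AddMonoidHom.mk' (fun c => ((TensorProduct.mk R (ResidueField R) M (c ^ p)).toAddMonoidHom).comp T)
      fun a b => by
        ext m
        simp [add_pow_char, TensorProduct.add_tmul])
    fun r c m => by
      change ((r • c) ^ p) ⊗ₜ[R] T m = (c ^ p) ⊗ₜ[R] T (r • m)
      rw [hT, smul_pow, TensorProduct.smul_tmul]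

omit [IsSepClosed (ResidueField R)] in
theorem bar_tmul (c : ResidueField R) (m : M) : bar T hT (c ⊗ₜ m) = (c ^ p) ⊗ₜ T m :=
  TensorProduct.liftAddHom_tmul _ _ _ _

omit [IsSepClosed (ResidueField R)] in
theorem bar_smul (c : ResidueField R) (z : ResidueField R ⊗[R] M) : bar T hT (c • z) = c ^ p • bar T hT z := by
  induction z using TensorProduct.induction_on with
  | zero => simp
  | tmul a m => rw [TensorProduct.smul_tmul', bar_tmul, bar_tmul, TensorProduct.smul_tmul', smul_eq_mul, mul_pow, smul_eq_mul]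
  | add a b ha hb => simp [smul_add, ha, hb]

omit [HenselianLocalRing R] [CharP R p] [IsSepClosed (ResidueField R)] hT in
theorem one_tmul_surjective [IsLocalRing R] : Function.Surjective fun m : M => (1 : ResidueField R) ⊗ₜ[R] m := by
  intro z
  induction z using TensorProduct.induction_on with
  | zero => exact ⟨0, TensorProduct.tmul_zero _ _⟩
  | tmul c m =>
    obtain ⟨r, rfl⟩ := residue_surjective c
    exact ⟨r • m, by simp only [← TensorProduct.smul_tmul, Algebra.smul_def, mul_one, ResidueField.algebraMap_eq]⟩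
  | add a b ha hb =>
    obtain ⟨x, rfl⟩ := ha
    obtain ⟨y, rfl⟩ := hb
    exact ⟨x + y, TensorProduct.tmul_add _ _ _⟩

omit [HenselianLocalRing R] [CharP R p] [IsSepClosed (ResidueField R)] hT in
theorem one_tmul_eq_zero [IsLocalRing R] {m : M} :
    (1 : ResidueField R) ⊗ₜ[R] m = 0 ↔ m ∈ maximalIdeal R • (⊤ : Submodule R M) := by
  rw [← Submodule.Quotient.mk_eq_zero]
  rw [← TensorProduct.quotTensorEquivQuotSMul_mk_one_tmul (maximalIdeal R) m, LinearEquiv.map_eq_zero_iff]
  rfl

/-- a residual fixed vector lifts to a fixed vector -/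
theorem exists_fixed [Module.Finite R M] {z : ResidueField R ⊗[R] M} (hz : bar T hT z = z) :
    ∃ m : M, T m = m ∧ (1 : ResidueField R) ⊗ₜ[R] m = z := by
  classical
  obtain ⟨x, rfl⟩ := one_tmul_surjective z
  dsimp only at hz ⊢
  obtain ⟨n, g, hg⟩ := Module.Finite.exists_fin (R := R) (M := M)
  have hd : T x - x ∈ maximalIdeal R • (⊤ : Submodule R M) := by
    rw [← one_tmul_eq_zero, TensorProduct.tmul_sub, sub_eq_zero]
    rwa [bar_tmul, one_pow] at hz
  rw [← hg] at hd
  obtain ⟨a, ha, hsum⟩ := (Submodule.mem_ideal_smul_span_iff_exists_sum _ _ _).1 hd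
  let N : Submodule R M := Submodule.span R (Set.range fun q : Fin n × Fin n => a q.1 • g q.2)
  have hN : ∀ m ∈ N, T m ∈ N := fun m hm => by
    induction hm using Submodule.span_induction with
    | mem m hm =>
      obtain ⟨⟨i, j⟩, rfl⟩ := hm
      obtain ⟨c, hc⟩ := (Submodule.mem_span_range_iff_exists_fun R).1
        (show T (g j) ∈ Submodule.span R (Set.range g) by rw [hg]; trivial)
      rw [hT, ← hc, Finset.smul_sum]
      refine Submodule.sum_mem _ fun l _ => ?_
      obtain ⟨e, he⟩ := Nat.exists_eq_add_of_le hp.out.one_lt.le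
      rw [he, smul_smul, show a i ^ (1 + e) * c l = (a i ^ e * c l) * a i by ring, ← smul_smul]
      exact N.smul_mem _ (Submodule.subset_span ⟨(i, l), rfl⟩)
    | zero => simp
    | add x y _ _ hx hy => rw [map_add]; exact add_mem hx hy
    | smul r x _ hx => rw [hT]; exact N.smul_mem _ hx
  have hxN : T x - x ∈ N := by
    rw [← hsum, Finsupp.sum]
    exact Submodule.sum_mem _ fun i _ => Submodule.subset_span ⟨(i, i), rfl⟩
  have hle : N ≤ maximalIdeal R • (⊤ : Submodule R M) := by
    refine Submodule.span_le.2 ?_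
    rintro _ ⟨⟨i, j⟩, rfl⟩
    exact Submodule.smul_mem_smul (ha i) trivial
  haveI : Module.Finite R N := Module.Finite.span_of_finite R (Set.finite_range _)
  let TN : N →+ N := AddMonoidHom.mk' (fun m => ⟨T m, hN m m.2⟩) fun a b => Subtype.ext (map_add T _ _)
  obtain ⟨⟨w, hw⟩, hwe⟩ := sub_surjective TN (fun r m => Subtype.ext (hT r m)) ⟨-(T x - x), N.neg_mem hxN⟩
  refine ⟨x + w, ?_, ?_⟩
  · have h : T w - w = -(T x - x) := congrArg Subtype.val hwe
    rw [← sub_eq_zero, map_add, add_sub_add_comm, h, add_neg_cancel]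
  · rw [TensorProduct.tmul_add, one_tmul_eq_zero.2 (hle hw), add_zero]

omit [IsSepClosed (ResidueField R)] in
/-- fixed vectors in the maximal ideal times a free module vanish -/
theorem eq_zero_of_free [Module.Free R M] [Module.Finite R M] {d : M} (hd : T d = d)
    (h0 : d ∈ maximalIdeal R • (⊤ : Submodule R M)) : d = 0 := by
  classical
  let b := Module.Free.chooseBasis R M
  let I : Ideal R := Ideal.span (Set.range fun i => b.repr d i)
  have hm : ∀ i, b.repr d i ∈ maximalIdeal R := fun i => by
    refine Submodule.smul_induction_on h0 (fun r hr m _ => ?_) fun x y hx hy => by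
      rw [map_add, Finsupp.add_apply]; exact add_mem hx hy
    rw [map_smul, Finsupp.smul_apply, smul_eq_mul]
    exact Ideal.mul_mem_right _ _ hr
  have hle : I ≤ maximalIdeal R • I := by
    refine Ideal.span_le.2 ?_
    rintro _ ⟨l, rfl⟩
    show b.repr d l ∈ maximalIdeal R • I
    rw [show b.repr d l = b.repr (T (∑ i, b.repr d i • b i)) l by rw [b.sum_repr, hd]]
    simp only [map_sum, hT, map_smul, Finsupp.finset_sum_apply, Finsupp.smul_apply, smul_eq_mul]
    refine Submodule.sum_mem _ fun i _ => Ideal.mul_mem_right _ _ ?_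
    obtain ⟨e, he⟩ := Nat.exists_eq_add_of_le hp.out.two_le
    rw [he, show b.repr d i ^ (2 + e) = b.repr d i * (b.repr d i * b.repr d i ^ e) by ring]
    exact Ideal.mul_mem_mul (hm i) (Ideal.mul_mem_right _ _ (Ideal.subset_span ⟨i, rfl⟩))
  have hI := Submodule.eq_bot_of_le_smul_of_le_jacobson_bot (maximalIdeal R) I
    (Submodule.fg_span (Set.finite_range _)) hle (IsLocalRing.maximalIdeal_le_jacobson _)
  refine b.repr.map_eq_zero_iff.1 (Finsupp.ext fun i => ?_)
  have : b.repr d i ∈ I := Ideal.subset_span ⟨i, rfl⟩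
  rw [hI] at this
  exact this

omit [IsSepClosed (ResidueField R)] in
/-- the same over a Noetherian ring -/
theorem eq_zero_of_noetherian [IsNoetherianRing R] [Module.Finite R M] {d : M} (hd : T d = d)
    (h0 : d ∈ maximalIdeal R • (⊤ : Submodule R M)) : d = 0 := by
  have key : ∀ N : ℕ, ∀ m ∈ maximalIdeal R ^ (N + 1) • (⊤ : Submodule R M),
      T m ∈ maximalIdeal R ^ (N + 2) • (⊤ : Submodule R M) := fun N m hm => by
    refine Submodule.smul_induction_on hm (fun r hr x _ => ?_) fun x y hx hy => by
      rw [map_add]; exact add_mem hx hy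
    rw [hT]
    refine Submodule.smul_mem_smul ?_ trivial
    have h1 : r ^ p ∈ (maximalIdeal R ^ (N + 1)) ^ p := Ideal.pow_mem_pow hr p
    rw [← pow_mul] at h1
    refine Ideal.pow_le_pow_right ?_ h1
    calc N + 2 ≤ (N + 1) * 2 := by omega
      _ ≤ (N + 1) * p := Nat.mul_le_mul_left _ hp.out.two_le
  have h : ∀ N, d ∈ maximalIdeal R ^ N • (⊤ : Submodule R M) := fun N => by
    have h1 : d ∈ maximalIdeal R ^ (N + 1) • (⊤ : Submodule R M) := by
      induction N with
      | zero => rwa [pow_one]
      | succ N ih => rw [← hd]; exact key N d ih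
    exact Submodule.smul_mono_left (Ideal.pow_le_pow_right (by omega)) h1
  have := Ideal.iInf_pow_smul_eq_bot_of_isLocalRing (maximalIdeal R) (M := M) (maximalIdeal.isMaximal R).ne_top
  exact (Submodule.mem_bot R).1 (this ▸ Submodule.mem_iInf _ |>.2 h)

omit [CharP R p] [IsSepClosed (ResidueField R)] hT in
theorem card_roots [CharP (ResidueField R) p] : Nat.card {c : ResidueField R // c ^ p = c} = p := by
  obtain ⟨hf, hle⟩ := Groth.Agent.SigmaFix.finite_roots p (ResidueField R)
  refine le_antisymm hle ?_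
  haveI : Finite {c : ResidueField R // c ^ p = c} := hf.to_subtype
  have h := Nat.card_le_card_of_injective
    (fun a : ZMod p => (⟨ZMod.castHom dvd_rfl (ResidueField R) a, by rw [← map_pow, ZMod.pow_card]⟩ :
      {c : ResidueField R // c ^ p = c}))
    fun a b h => (ZMod.castHom dvd_rfl (ResidueField R)).injective (congrArg Subtype.val h)
  rwa [Nat.card_eq_fintype_card, ZMod.card] at h

/-- number of fixed vectors -/
theorem card_fixed [Module.Finite R M] (hspan : Submodule.span R (Set.range T) = ⊤)
    (hinj : ∀ d : M, T d = d → d ∈ maximalIdeal R • (⊤ : Submodule R M) → d = 0) :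
    Nat.card {m : M // T m = m} = p ^ Module.finrank (ResidueField R) (ResidueField R ⊗[R] M) := by
  classical
  let Q := Groth.Agent.SigmaLinLib.ofQLinear (p := p) (r := 1) (bar T hT) fun c v => by
    rw [pow_one]; exact bar_smul T hT c v
  have hQ : ∀ z, Q z = bar T hT z := fun _ => rfl
  have h1 : Submodule.span (ResidueField R) (Set.range ⇑Q) = ⊤ := by
    refine Submodule.eq_top_iff'.2 fun z => ?_
    obtain ⟨m, rfl⟩ := one_tmul_surjective z
    dsimp only
    have hm : m ∈ Submodule.span R (Set.range T) := by rw [hspan]; trivial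
    induction hm using Submodule.span_induction with
    | mem m hm =>
      obtain ⟨x, rfl⟩ := hm
      refine Submodule.subset_span ⟨(1 : ResidueField R) ⊗ₜ x, ?_⟩
      rw [hQ, bar_tmul, one_pow]
    | zero => simp
    | add x y _ _ hx hy => rw [TensorProduct.tmul_add]; exact add_mem hx hy
    | smul r x _ hx =>
      rw [TensorProduct.tmul_smul, ← algebraMap_smul (ResidueField R) r]
      exact Submodule.smul_mem _ _ hx
  obtain ⟨b, hb⟩ := Groth.Agent.SigmaLinLib.exists_basis_fixed Q h1
    (Groth.Agent.SigmaLinLib.cond2_frobenius _ p 1 one_pos) (Groth.Agent.SigmaLinLib.cond3_frobenius _ p 1 one_pos)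
  let V := ResidueField R ⊗[R] M
  have eV : {z : V // Q z = z} ≃ (Fin (Module.finrank (ResidueField R) V) → {c : ResidueField R // c ^ p = c}) :=
    { toFun := fun z i => ⟨b.repr z.1 i, by
        simpa [iterateFrobenius_def, frobenius_def] using
          Groth.Agent.SigmaLinLib.fixed_coords Q b hb (n := 1) (v := z.1) z.2 i⟩
      invFun := fun c => ⟨∑ i, (c i).1 • b i, by
        rw [map_sum]
        refine Finset.sum_congr rfl fun i _ => ?_
        rw [LinearMap.map_smulₛₗ, hb, iterateFrobenius_def, pow_one, (c i).2]⟩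
      left_inv := fun z => Subtype.ext (b.sum_repr z.1)
      right_inv := fun c => funext fun i => Subtype.ext (by dsimp only; rw [Module.Basis.repr_sum_self]) }
  let red : {m : M // T m = m} → {z : V // Q z = z} := fun m =>
    ⟨(1 : ResidueField R) ⊗ₜ m.1, by rw [hQ, bar_tmul, one_pow, m.2]⟩
  have hbij : Function.Bijective red := by
    refine ⟨fun a c h => Subtype.ext (sub_eq_zero.1 (hinj _ (by rw [map_sub, a.2, c.2]) ?_)), fun z => ?_⟩
    · have h' : (1 : ResidueField R) ⊗ₜ[R] a.1 = (1 : ResidueField R) ⊗ₜ[R] c.1 := congrArg Subtype.val h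
      rw [← one_tmul_eq_zero, TensorProduct.tmul_sub, h', sub_self]
    · obtain ⟨m, hm, hmz⟩ := exists_fixed T hT z.2
      exact ⟨⟨m, hm⟩, Subtype.ext hmz⟩
  rw [Nat.card_congr ((Equiv.ofBijective red hbij).trans eV), Nat.card_fun, card_roots, Nat.card_fin]

end FrobLift29
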